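import Cfsg.Agent.H83.Eight.CC
import Cfsg.Agent.H83.RowD4
import Cfsg.Agent.H954.DR.RkTwo
import Cfsg.Agent.H115.HC.TwDFour
import Cfsg.Agent.H167.HasSt
import Cfsg.Agent.H664.Eight.Base
import Cfsg.Prelude.Def_Classification2

/-!
# Eight character degrees of `³D₄(q)` (helper83, for S4899)
-/

set_option autoImplicit false

open Cfsg

namespace Cfsg.Agent.H83.Eight.TwD4

open CoxeterSystem Cfsg.Agent.ChevalleyStructure.CoxeterGeom Cfsg.Agent.Tits.Roots Cfsg.Agent.Tits.Core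
  Cfsg.Agent.Nodes.Reps Cfsg.Agent.Nodes.BNOf Cfsg.Agent.Nodes.Bruhat Cfsg.Agent.Nodes.LeviDec
open Cfsg.Lie Cfsg.Agent.ChevalleyStructure Cfsg.Agent.Nodes
open Cfsg.Agent.Nodes.RGDFoldSL
open Cfsg.Agent.ChevalleyStructure.SL2Hom (up lo mem_closure_SL2)
open Cfsg.Agent.BiChar.TwDFour Cfsg.Agent.H664.Eight

/-! ### numbers -/

theorem chain {q P d1 d2 d3 d4 : ℕ} (hq : 2 ≤ q) (hP : P + q ^ 2 = q ^ 4 + 1) (h1 : d1 = q * P)
    (h2 : 2 * d2 = q ^ 3 * (q + 1) ^ 2 * P) (h3 : 2 * d3 = q ^ 3 * (q ^ 3 + 1) ^ 2) (h4 : d4 = q ^ 7 * P) :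
    1 < d1 ∧ d1 < d3 ∧ d3 < d2 ∧ d2 < d4 ∧ d4 < q ^ 12 := by
  obtain ⟨k, rfl⟩ := Nat.exists_eq_add_of_le hq
  have hP' : P = (2 + k) ^ 2 * (k ^ 2 + 4 * k + 3) + 1 := by
    have : (2 + k) ^ 4 = (2 + k) ^ 2 + (2 + k) ^ 2 * (k ^ 2 + 4 * k + 3) := by ring
    omega
  refine ⟨?_, ?_, ?_, ?_, ?_⟩
  · rw [h1, hP']
    nlinarith [Nat.zero_le k]
  · have : 2 * d1 < 2 * d3 := by
      rw [h1, h3, hP']
      ring_nf
      nlinarith [Nat.zero_le k]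
    omega
  · have : 2 * d3 < 2 * d2 := by
      rw [h2, h3, hP']
      ring_nf
      nlinarith [Nat.zero_le k]
    omega
  · have : 2 * d2 < 2 * d4 := by
      rw [h2, h4, hP']
      ring_nf
      nlinarith [Nat.zero_le k]
    omega
  · rw [h4, hP']
    ring_nf
    nlinarith [Nat.zero_le k]

theorem odd_P {q P : ℕ} (hP : P + q ^ 2 = q ^ 4 + 1) : ∃ k, P = 2 * k + 1 := by
  have h1 : Even (q ^ 4 + q ^ 2) := by
    rcases Nat.even_or_odd q with h | h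
    · exact (h.pow_of_ne_zero (by norm_num)).add (h.pow_of_ne_zero (by norm_num))
    · exact (h.pow).add_odd h.pow
  obtain ⟨a, ha⟩ := h1
  exact ⟨a - q ^ 2, by omega⟩

/-- the residues modulo `P` -/
theorem residues {q P d3 : ℕ} (hP : P + q ^ 2 = q ^ 4 + 1) (h3 : 2 * d3 = q ^ 3 * (q ^ 3 + 1) ^ 2) :
    (P : ℤ) ∣ (d3 : ℤ) + 1 ∧ (P : ℤ) ∣ (q : ℤ) ^ 12 - 1 := by
  have hP' : (P : ℤ) = (q : ℤ) ^ 4 - (q : ℤ) ^ 2 + 1 := by
    have : (P : ℤ) + (q : ℤ) ^ 2 = (q : ℤ) ^ 4 + 1 := by exact_mod_cast hP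
    linarith
  constructor
  · obtain ⟨k, hk⟩ := odd_P hP
    have hc : IsCoprime (P : ℤ) 2 := ⟨1, -k, by rw [hk]; push_cast; ring⟩
    apply hc.dvd_of_dvd_mul_left
    have h4 : (2 : ℤ) * d3 = (q : ℤ) ^ 3 * ((q : ℤ) ^ 3 + 1) ^ 2 := by exact_mod_cast h3
    refine ⟨((q : ℤ) ^ 3 + 2) * ((q : ℤ) ^ 2 + 1), ?_⟩
    rw [mul_add, h4, hP']
    ring
  · refine ⟨((q : ℤ) ^ 6 - 1) * ((q : ℤ) ^ 2 + 1), ?_⟩
    rw [hP']
    ring

theorem big_ne {q P m d2 d4 : ℕ} (hq : 2 ≤ q) (hP : P + q ^ 2 = q ^ 4 + 1) (hm : m ≠ 0)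
    (h2 : 2 * d2 = q ^ 3 * (q + 1) ^ 2 * P) (h4 : d4 = q ^ 7 * P) :
    d2 < (q ^ 3 + 1) * (q ^ 8 + q ^ 4 + 1) * m ∧ d4 ≠ (q ^ 3 + 1) * (q ^ 8 + q ^ 4 + 1) * m ∧
      q ^ 12 ≠ (q ^ 3 + 1) * (q ^ 8 + q ^ 4 + 1) * m ∧ P ∣ (q ^ 3 + 1) * (q ^ 8 + q ^ 4 + 1) * m := by
  have e : q ^ 8 + q ^ 4 + 1 = (q ^ 4 + q ^ 2 + 1) * P := by
    zify
    have : (P : ℤ) = (q : ℤ) ^ 4 - (q : ℤ) ^ 2 + 1 := by
      have : (P : ℤ) + (q : ℤ) ^ 2 = (q : ℤ) ^ 4 + 1 := by exact_mod_cast hP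
      linarith
    rw [this]
    ring
  have hP0 : 0 < P := by
    have : q ^ 2 ≤ q ^ 4 := Nat.pow_le_pow_right (by omega) (by norm_num)
    omega
  have hcop : ∀ n, Nat.Coprime (q ^ 3 + 1) (q ^ n) := by
    intro n
    apply Nat.Coprime.pow_right
    rw [show q ^ 3 + 1 = 1 + q ^ 2 * q by ring]
    simp
  have h31 : q ^ 3 + 1 ≠ 1 := by
    have : 0 < q ^ 3 := by positivity
    omega
  have hnot : ∀ n, ¬ (q ^ 3 + 1) ∣ q ^ n := fun n h => h31 (Nat.Coprime.eq_one_of_dvd (hcop n) h)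
  refine ⟨?_, ?_, ?_, ?_⟩
  · have hm1 : 1 ≤ m := Nat.one_le_iff_ne_zero.2 hm
    have h5 : 2 * d2 < 2 * ((q ^ 3 + 1) * (q ^ 8 + q ^ 4 + 1)) := by
      rw [h2, e]
      have h6 : q ^ 3 * (q + 1) ^ 2 < 2 * ((q ^ 3 + 1) * (q ^ 4 + q ^ 2 + 1)) := by
        obtain ⟨k, rfl⟩ := Nat.exists_eq_add_of_le hq
        ring_nf
        nlinarith [Nat.zero_le k]
      calc q ^ 3 * (q + 1) ^ 2 * P < 2 * ((q ^ 3 + 1) * (q ^ 4 + q ^ 2 + 1)) * P := Nat.mul_lt_mul_of_pos_right h6 hP0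
        _ = _ := by ring
    have h7 : (q ^ 3 + 1) * (q ^ 8 + q ^ 4 + 1) * 1 ≤ (q ^ 3 + 1) * (q ^ 8 + q ^ 4 + 1) * m := Nat.mul_le_mul_left _ hm1
    omega
  · intro h
    rw [h4, e] at h
    have h5 : q ^ 7 * P = (q ^ 3 + 1) * ((q ^ 4 + q ^ 2 + 1) * m) * P := by rw [h]; ring
    exact hnot 7 ⟨_, Nat.eq_of_mul_eq_mul_right hP0 h5⟩
  · intro h
    exact hnot 12 ⟨(q ^ 8 + q ^ 4 + 1) * m, by rw [h]; ring⟩
  · rw [e]
    exact ⟨(q ^ 3 + 1) * (q ^ 4 + q ^ 2 + 1) * m, by ring⟩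

theorem exists_half (q P : ℕ) :
    (∃ d2, 2 * d2 = q ^ 3 * (q + 1) ^ 2 * P) ∧ ∃ d3, 2 * d3 = q ^ 3 * (q ^ 3 + 1) ^ 2 := by
  have h1 : Even (q ^ 3 * (q + 1) ^ 2 * P) ∧ Even (q ^ 3 * (q ^ 3 + 1) ^ 2) := by
    rcases Nat.even_or_odd q with h | h
    · have h3 : Even (q ^ 3) := h.pow_of_ne_zero (by norm_num)
      exact ⟨(h3.mul_right _).mul_right _, h3.mul_right _⟩
    · have h3 : Even ((q + 1) ^ 2) := (h.add_one).pow_of_ne_zero (by norm_num)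
      have h4 : Even ((q ^ 3 + 1) ^ 2) := (h.pow.add_one).pow_of_ne_zero (by norm_num)
      exact ⟨(h3.mul_left _).mul_right _, h4.mul_left _⟩
  obtain ⟨⟨a, ha⟩, ⟨b, hb⟩⟩ := h1
  exact ⟨⟨a, by rw [ha]; ring⟩, ⟨b, by rw [hb]; ring⟩⟩

/-! ### the degrees -/

section group

universe u

variable {K : Type} [Field K] [Fintype K] {q : ℕ} (hq : IsPrimePow q) (hK : Fintype.card K = q ^ 3)

theorem mem_of_irr {S : Type u} [Group S] [Finite S] {χ : S → ℂ} (h : IsIrrCharacter S χ) {d : ℕ} (hd : χ 1 = d) :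
    d ∈ charDegrees S := by
  refine ⟨⟨χ, h⟩, ?_⟩
  show charDegree χ = d
  unfold charDegree
  rw [hd]
  simp

/-- the order of the root group of the node `1` -/
theorem card_X1 {φ : K →+* K} (hφ : ∀ x, φ x = x ^ q) (hle : twistedD4 K q ≤ D4Fixed.fix φ)
    (hK : Fintype.card K = q ^ 3) : Nat.card (RGDTwD4.X φ q (sr 1)) = q ^ 3 := by
  have h1 : Nat.card (Fx φ ((RGDTwNode.D4.rest 1).length + 1)) = q ^ 3 := by
    rw [← hK, ← Nat.card_eq_fintype_card]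
    exact Nat.card_congr (Equiv.subtypeUnivEquiv fun t => mem_Fx_three hK hφ t)
  refine Eq.trans ?_ h1
  symm
  refine Nat.card_congr (Equiv.ofBijective (fun t => (⟨Ph hφ hle 1 (up t), (mem_X hφ hle 1 _).2 ⟨t, rfl⟩⟩ :
    RGDTwD4.X φ q (sr 1))) ⟨fun a b hab => H115.HC.TwDFour.up_inj hφ hle 1 (congrArg Subtype.val hab), ?_⟩)
  rintro ⟨g, hg⟩
  obtain ⟨t, ht⟩ := (mem_X hφ hle 1 g).1 hg
  exact ⟨t, Subtype.ext ht.symm⟩

include hq hK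

/-- the unipotent degrees -/
theorem unip {P : ℕ} (hP : P + q ^ 2 = q ^ 4 + 1) {d2 d3 : ℕ} (h2 : 2 * d2 = q ^ 3 * (q + 1) ^ 2 * P)
    (h3 : 2 * d3 = q ^ 3 * (q ^ 3 + 1) ^ 2) :
    q * P ∈ charDegrees ↥(twistedD4 K q) ∧ d2 ∈ charDegrees ↥(twistedD4 K q) ∧ d3 ∈ charDegrees ↥(twistedD4 K q) ∧
      q ^ 7 * P ∈ charDegrees ↥(twistedD4 K q) := by
  classical
  obtain ⟨p, hch⟩ := CharP.exists K
  have : Fact p.Prime := ⟨CharP.char_is_prime K p⟩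
  obtain ⟨φ, hφ⟩ := D4Fixed.exists_frob hq hK
  have hle := D4Fixed.twisted_le_fix hK hφ
  have : Finite CoxeterMatrix.G₂.Group := RGDChev.finite_W Cfsg.Agent.BiChar.GTwo.isType cs
  have Rg := RGDTwD4.rgd (K := K) cs hK hφ p
  have hG := H115.HC.TwDFour.GG_top hφ hK
  have hX0 := H115.HC.TwDFour.card_X0 hφ hle hq.one_lt hK
  have hX1 := card_X1 hφ hle hK
  have hq0 : q ≠ 0 := hq.ne_zero
  have hq30 : q ^ 3 ≠ 0 := pow_ne_zero _ hq0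
  have hP' : (P : ℚ) = (q : ℚ) ^ 4 - (q : ℚ) ^ 2 + 1 := by
    have : (P : ℚ) + (q : ℚ) ^ 2 = (q : ℚ) ^ 4 + 1 := by exact_mod_cast hP
    linarith
  have h2' : 2 * (d2 : ℚ) = (q : ℚ) ^ 3 * ((q : ℚ) + 1) ^ 2 * P := by exact_mod_cast h2
  have h3' : 2 * (d3 : ℚ) = (q : ℚ) ^ 3 * ((q : ℚ) ^ 3 + 1) ^ 2 := by exact_mod_cast h3
  have hI : ∀ k : Fin 2, k = 1 ∨ k = 0 := by decide
  have hI' : ∀ k : Fin 2, k = 0 ∨ k = 1 := by decide
  have hM : CoxeterMatrix.G₂ 1 0 = 6 := by decide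
  have hM' : CoxeterMatrix.G₂ 0 1 = 6 := by decide
  refine ⟨?_, ?_, ?_, ?_⟩
  · obtain ⟨χ, h, -, hd⟩ := H954.DR.RkTwo.g2_low Rg hG (i := 1) (j := 0) (by decide) hI hX0 hX1 hM hq0 hq30 (q * P) (by
      zify
      have : (P : ℤ) = (q : ℤ) ^ 4 - (q : ℤ) ^ 2 + 1 := by exact_mod_cast hP'
      rw [this]
      ring)
    exact mem_of_irr h hd
  · obtain ⟨χ, h, -, hd⟩ := H954.DR.RkTwo.g2_pm Rg hG (i := 1) (j := 0) (by decide) hI hX0 hX1 hM hq0 hq30 (-(q : ℚ) ^ 2)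
      (by push_cast; ring) d2 (by
        rw [h2', hP']
        push_cast
        ring)
    exact mem_of_irr h hd
  · obtain ⟨χ, h, -, hd⟩ := H954.DR.RkTwo.g2_pm Rg hG (i := 1) (j := 0) (by decide) hI hX0 hX1 hM hq0 hq30 ((q : ℚ) ^ 2)
      (by push_cast; ring) d3 (by
        rw [h3']
        push_cast
        ring)
    exact mem_of_irr h hd
  · obtain ⟨χ, h, -, hd⟩ := H954.DR.RkTwo.g2_low Rg hG (i := 0) (j := 1) (by decide) hI' hX1 hX0 hM' hq30 hq0 (q ^ 7 * P) (by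
      zify
      have : (P : ℤ) = (q : ℤ) ^ 4 - (q : ℤ) ^ 2 + 1 := by exact_mod_cast hP'
      rw [this]
      ring)
    exact mem_of_irr h hd

/-- the Steinberg character -/
theorem st : q ^ 12 ∈ charDegrees ↥(twistedD4 K q) := by
  obtain ⟨p, hch⟩ := CharP.exists K
  have hpf : Fact p.Prime := ⟨CharP.char_is_prime K p⟩
  obtain ⟨χ, h, hd, -⟩ := H167.StChar.HasSt.of_hasRGD (RGDTwD4.hasRGD hq hK p)
  have hpp : p.Prime := hpf.out
  obtain ⟨f, hf, hqf⟩ : ∃ f, f ≠ 0 ∧ q = p ^ f := by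
    obtain ⟨p', k, hp', hk, e⟩ := id hq
    obtain ⟨m, -, hm⟩ := FiniteField.card K p
    have h1 : p' = p := by
      have h2 : p' ∣ p ^ (m : ℕ) := by
        rw [← hm, hK, ← e]
        exact dvd_pow (dvd_pow_self p' hk.ne') (by norm_num)
      exact (Nat.prime_dvd_prime_iff_eq hp'.nat_prime hpp).1 (hp'.nat_prime.dvd_of_dvd_pow h2)
    exact ⟨k, hk.ne', by rw [← e, h1]⟩
  have hcard := S1067.result hq hK
  have hpq : p ∣ q := by rw [hqf]; exact dvd_pow_self p hf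
  have hcop : ∀ m, 1 ≤ m → ¬ p ∣ q ^ m - 1 := by
    intro m hm h
    have h1 : p ∣ q ^ m := dvd_pow hpq (by omega)
    have h2 : 1 ≤ q ^ m := Nat.one_le_pow _ _ hq.pos
    have h3 : p ∣ 1 := by
      have := (Nat.dvd_sub h1 h)
      rwa [Nat.sub_sub_self h2] at this
    exact hpp.one_lt.ne' (Nat.dvd_one.1 h3)
  have hnd : ¬ p ∣ (q ^ 2 - 1) * (q ^ 6 - 1) * (q ^ 8 + q ^ 4 + 1) := by
    rw [hpp.dvd_mul, hpp.dvd_mul]
    rintro ((h | h) | h)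
    · exact hcop 2 (by norm_num) h
    · exact hcop 6 (by norm_num) h
    · have h1 : p ∣ q ^ 8 + q ^ 4 := dvd_add (dvd_pow hpq (by norm_num)) (dvd_pow hpq (by norm_num))
      exact hpp.one_lt.ne' (Nat.dvd_one.1 ((Nat.dvd_add_right h1).1 h))
  have hfac : (Nat.card ↥(twistedD4 K q)).factorization p = f * 12 := by
    have h1 : Nat.card ↥(twistedD4 K q) = p ^ (f * 12) * ((q ^ 2 - 1) * (q ^ 6 - 1) * (q ^ 8 + q ^ 4 + 1)) := by
      rw [hcard, pow_mul, ← hqf]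
      ring
    have h0 : (q ^ 2 - 1) * (q ^ 6 - 1) * (q ^ 8 + q ^ 4 + 1) ≠ 0 := fun h => hnd (by rw [h]; exact dvd_zero p)
    rw [h1, Nat.factorization_mul (pow_ne_zero _ hpp.ne_zero) h0, Finsupp.add_apply,
      Nat.factorization_eq_zero_of_not_dvd hnd, add_zero, hpp.factorization_pow, Finsupp.single_eq_same]
  rw [hfac, pow_mul, ← hqf] at hd
  exact mem_of_irr h hd

/-- the exceptional characters of the torus of order `q⁴ - q² + 1` -/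
theorem exc {P : ℕ} (hP : P + q ^ 2 = q ^ 4 + 1) : ∃ d ∈ charDegrees ↥(twistedD4 K q), ¬ (P : ℤ) ∣ (d : ℤ) ∧
    ¬ (P : ℤ) ∣ (d : ℤ) - 1 ∧ ¬ (P : ℤ) ∣ (d : ℤ) + 1 := by
  classical
  obtain ⟨p, hch⟩ := CharP.exists K
  have hpf : Fact p.Prime := ⟨CharP.char_is_prime K p⟩
  have hfin : Finite ↥(twistedD4 K q) := inferInstance
  have := Fintype.ofFinite ↥(twistedD4 K q)
  obtain ⟨x0, hx0, hx0c, -⟩ := TorD4.exists_x0 hq hK p
  have hPe : P = q ^ 4 - q ^ 2 + 1 := by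
    have : q ^ 2 ≤ q ^ 4 := Nat.pow_le_pow_right hq.pos (by norm_num)
    omega
  have hP13 : 13 ≤ P := by
    obtain ⟨k, hk⟩ := Nat.exists_eq_add_of_le hq.two_le
    have h4 : q ^ 4 = q ^ 2 * q ^ 2 := by ring
    have h5 : 4 ≤ q ^ 2 := by
      have := Nat.pow_le_pow_left hq.two_le 2
      omega
    have h6 : q ^ 2 * q ^ 2 ≥ 4 * q ^ 2 := Nat.mul_le_mul_right _ h5
    omega
  have hcard : Nat.card ↥(Subgroup.zpowers x0) = P := by rw [Nat.card_zpowers, hx0, hPe]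
  have hA : Characters.CCBasic.IsCC (Subgroup.zpowers x0) := by
    refine ⟨fun h => ?_, hx0c⟩
    rw [h, Subgroup.card_bot] at hcard
    omega
  -- a prime divisor
  have hr := Nat.minFac_prime (n := P) (by omega)
  have hrP : P.minFac ∣ P := Nat.minFac_dvd P
  have hr4 : 4 < P.minFac := by
    obtain ⟨h2, h3⟩ := TorD4.prime_ne hr (by rw [← hPe]; exact hrP)
    have h4 := hr.two_le
    have h5 : P.minFac ≠ 4 := by
      intro h
      rw [h] at hr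
      revert hr
      decide
    omega
  have hidx : (Subgroup.zpowers x0).index ≡ 4 [MOD P.minFac] := by
    refine RowD4.index_mod hq.one_lt.le (m := P.minFac) (by rw [← hPe]; exact hrP) ?_
    rw [← S1067.result hq hK, ← hPe, ← hcard, mul_comm]
    exact (Subgroup.zpowers x0).card_mul_index
  have hN := CC.card_normalizer hA inferInstance hr (by rw [hcard]; exact hrP) hidx (by norm_num) hr4
  obtain ⟨χ, h0, h1, h2⟩ := TI.exists_exc hA hN (by norm_num) (by rw [hcard]; omega)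
  rw [hcard] at h0 h1 h2
  exact ⟨_, ⟨χ, rfl⟩, h0, h1, h2⟩

/-- **At least eight character degrees.** -/
theorem eight : Eight ↥(twistedD4 K q) := by
  have hfin : Finite ↥(twistedD4 K q) := inferInstance
  obtain ⟨P, hP⟩ : ∃ P, P + q ^ 2 = q ^ 4 + 1 := ⟨q ^ 4 + 1 - q ^ 2, by
    have : q ^ 2 ≤ q ^ 4 := Nat.pow_le_pow_right hq.pos (by norm_num)
    omega⟩
  obtain ⟨⟨d2, h2⟩, ⟨d3, h3⟩⟩ := exists_half q P
  obtain ⟨m1, m2, m3, m4⟩ := unip hq hK hP h2 h3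
  obtain ⟨x, mx, x0, x1, x2⟩ := exc hq hK hP
  obtain ⟨χ, m, hχ, -⟩ := H115.HC.TwDFour.char_all hq hK
  have hm : m ≠ 0 := by
    rintro rfl
    rw [mul_zero] at hχ
    obtain ⟨n, hn0, hn⟩ := Characters.Core.isIrr_apply_one χ.2
    unfold charDegree at hχ
    rw [hn] at hχ
    simp at hχ
    omega
  have mb : (q ^ 3 + 1) * (q ^ 8 + q ^ 4 + 1) * m ∈ charDegrees ↥(twistedD4 K q) := ⟨χ, hχ⟩
  obtain ⟨c1, c2, c3, c4, c5⟩ := chain hq.two_le hP rfl h2 h3 rfl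
  obtain ⟨b1, b2, b3, b4⟩ := big_ne hq.two_le hP hm h2 rfl
  obtain ⟨r3, rq⟩ := residues hP h3
  have dP : ∀ d : ℕ, P ∣ d → x ≠ d := by
    rintro d hd rfl
    exact x0 (Int.natCast_dvd_natCast.2 hd)
  have hPodd : Nat.Coprime P 2 := by
    obtain ⟨k, hk⟩ := odd_P hP
    rw [hk]
    simp
  have e1 : x ≠ 1 := by rintro rfl; exact x1 (by simp)
  have e2 : x ≠ q * P := dP _ (Dvd.intro_left _ rfl)
  have e3 : x ≠ d3 := by rintro rfl; exact x2 r3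
  have e4 : x ≠ d2 := dP _ (hPodd.dvd_of_dvd_mul_left (by rw [h2]; exact Dvd.intro_left _ rfl))
  have e5 : x ≠ q ^ 7 * P := dP _ (Dvd.intro_left _ rfl)
  have e6 : x ≠ q ^ 12 := by
    rintro rfl
    apply x1
    push_cast
    exact rq
  have e7 := dP _ b4
  generalize (q ^ 3 + 1) * (q ^ 8 + q ^ 4 + 1) * m = n at *
  have ms := st hq hK
  refine eight_of_list [1, q * P, d3, d2, q ^ 7 * P, q ^ 12, n, x] ?_ (by simp) ?_
  · generalize q * P = a at *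
    generalize q ^ 7 * P = b at *
    generalize q ^ 12 = c at *
    simp only [List.nodup_cons, List.mem_cons, List.not_mem_nil, or_false, not_or, List.nodup_nil, and_true,
      not_false_eq_true]
    refine ⟨⟨?_, ?_, ?_, ?_, ?_, ?_, ?_⟩, ⟨?_, ?_, ?_, ?_, ?_, ?_⟩, ⟨?_, ?_, ?_, ?_, ?_⟩, ⟨?_, ?_, ?_, ?_⟩,
      ⟨?_, ?_, ?_⟩, ⟨?_, ?_⟩, ?_⟩ <;> omega
  · intro d hd
    simp only [List.mem_cons, List.not_mem_nil, or_false] at hd
    rcases hd with rfl | rfl | rfl | rfl | rfl | rfl | rfl | rfl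
    · exact one_mem
    · exact m1
    · exact m3
    · exact m2
    · exact m4
    · exact ms
    · exact mb
    · exact mx

end group

/-- **The row `³D₄(q)` of S4899.** -/
theorem eight_d4 {S : Type*} [Group S] (h : Lie.Iso3D4 S) : Eight S := by
  obtain ⟨K, _, _, q, hq, hK, ⟨e⟩⟩ := h
  exact Eight.of_equiv e (eight hq hK)

end Cfsg.Agent.H83.Eight.TwD4
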