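import Cfsg.Agent.H653.Sieve.Col
import Cfsg.Agent.H664.Eight.Base
import Cfsg.Agent.H843.IMC.Co1D
import Cfsg.Agent.H208.DS.Cent

/-!
# `Co1` has at least eight character degrees (helper83, for S4899)

Known degrees `1, 276, 299, 17250, 80730`. The column of the elements of order 23 (self-centralizing, `e = 11`, two
exceptional characters): if all nonexceptional nonprincipal characters of degree prime to 23 had the same degree `a` and
both exceptional characters the degree `b`, then `b = 10 a ± 1`, which is impossible for divisors of `|Co1|`.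
-/

set_option autoImplicit false
set_option linter.unusedSectionVars false

namespace Cfsg.Agent.H83.Eight

open Cfsg Subgroup Cfsg.Agent.Characters.Core Cfsg.Agent.H664.Eight Cfsg.Agent.H653.Sieve

universe u

/-- no solution of `b = 10 a ± 1` -/
theorem no_sol_co1 : ∀ (i : Fin 10) (j : Fin 3) (k : Fin 2) (l : Fin 2),
    ¬ ((3 ^ i.1 * 7 ^ j.1 * 11 ^ k.1 * 13 ^ l.1 - 1) % 10 = 0 ∧
      (3 ^ i.1 * 7 ^ j.1 * 11 ^ k.1 * 13 ^ l.1 - 1) / 10 % 23 = 1 ∧
      (3 ^ i.1 * 7 ^ j.1 * 11 ^ k.1 * 13 ^ l.1 - 1) / 10 ≠ 1 ∧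
      4157776806543360000 % ((3 ^ i.1 * 7 ^ j.1 * 11 ^ k.1 * 13 ^ l.1 - 1) / 10) = 0) ∧
    ¬ ((3 ^ i.1 * 7 ^ j.1 * 11 ^ k.1 * 13 ^ l.1 + 1) % 10 = 0 ∧
      (3 ^ i.1 * 7 ^ j.1 * 11 ^ k.1 * 13 ^ l.1 + 1) / 10 % 23 = 22 ∧
      4157776806543360000 % ((3 ^ i.1 * 7 ^ j.1 * 11 ^ k.1 * 13 ^ l.1 + 1) / 10) = 0) := by
  decide +kernel

theorem exists_exps {b : ℕ} (h : b ∣ 4157776806543360000) (h2 : ¬ 2 ∣ b) (h5 : ¬ 5 ∣ b) (h23 : ¬ 23 ∣ b) :
    ∃ (i : Fin 10) (j : Fin 3) (k : Fin 2) (l : Fin 2), b = 3 ^ i.1 * 7 ^ j.1 * 11 ^ k.1 * 13 ^ l.1 := by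
  have e : 4157776806543360000 = 2 ^ 21 * (5 ^ 4 * (23 * (3 ^ 9 * 7 ^ 2 * 11 ^ 1 * 13 ^ 1))) := by norm_num
  rw [e] at h
  have h' := (Nat.Coprime.pow_right 21 ((Nat.Prime.coprime_iff_not_dvd (by norm_num)).2 h2).symm).dvd_of_dvd_mul_left h
  have h'' := (Nat.Coprime.pow_right 4 ((Nat.Prime.coprime_iff_not_dvd (by norm_num)).2 h5).symm).dvd_of_dvd_mul_left h'
  have h3 := ((Nat.Prime.coprime_iff_not_dvd (by norm_num)).2 h23).symm.dvd_of_dvd_mul_left h''
  obtain ⟨u, v, hu, hv, e1⟩ := exists_dvd_and_dvd_of_dvd_mul h3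
  obtain ⟨u', w, hu', hw, e2⟩ := exists_dvd_and_dvd_of_dvd_mul hu
  obtain ⟨y, z, hy, hz, e3⟩ := exists_dvd_and_dvd_of_dvd_mul hu'
  obtain ⟨i, hi, e4⟩ := (Nat.dvd_prime_pow (by norm_num)).1 hy
  obtain ⟨j, hj, e5⟩ := (Nat.dvd_prime_pow (by norm_num)).1 hz
  obtain ⟨k, hk, e6⟩ := (Nat.dvd_prime_pow (by norm_num)).1 hw
  obtain ⟨l, hl, e7⟩ := (Nat.dvd_prime_pow (by norm_num)).1 hv
  refine ⟨⟨i, by omega⟩, ⟨j, by omega⟩, ⟨k, by omega⟩, ⟨l, by omega⟩, ?_⟩
  rw [e1, e2, e3, e4, e5, e6, e7]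

/-- The numerical contradiction. -/
theorem num_co1 {a b : ℕ} (ha : a ∣ 4157776806543360000) (hb : b ∣ 4157776806543360000) (ha0 : 0 < a) (ha1 : a ≠ 1)
    (hb0 : 0 < b)
    {s ε : ℤ} (hs : (a % 23 = 1 ∧ s = 2) ∨ (a % 23 = 22 ∧ s = -2)) (hε : (b % 23 = 12 ∧ ε = 1) ∨ (b % 23 = 11 ∧ ε = -1))
    (h : 10 * s * a + 2 * ε * b + 2 = 0) : False := by
  have h2 : ¬ 23 ∣ b := by
    intro h23
    have := Nat.mod_eq_zero_of_dvd h23
    omega
  rcases hs with ⟨h1, rfl⟩ | ⟨h1, rfl⟩ <;> rcases hε with ⟨h3, rfl⟩ | ⟨h3, rfl⟩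
  · omega
  · have hb' : b = 10 * a + 1 := by omega
    obtain ⟨i, j, k, l, e⟩ := exists_exps hb (by omega) (by omega) h2
    refine (no_sol_co1 i j k l).1 ?_
    rw [← e]
    have e1 : (b - 1) / 10 = a := by omega
    rw [e1]
    exact ⟨by omega, h1, ha1, Nat.mod_eq_zero_of_dvd ha⟩
  · have hb' : b + 1 = 10 * a := by omega
    obtain ⟨i, j, k, l, e⟩ := exists_exps hb (by omega) (by omega) h2
    refine (no_sol_co1 i j k l).2 ?_
    rw [← e]
    have e1 : (b + 1) / 10 = a := by omega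
    rw [e1]
    exact ⟨by omega, h1, Nat.mod_eq_zero_of_dvd ha⟩
  · omega

theorem eight_co1' : Eight Spor.Co1 := by
  classical
  have hN : Nat.card Spor.Co1 = 4157776806543360000 := Cfsg.Agent.S0399.result.2
  have hfin : Finite Spor.Co1 := Nat.finite_of_card_ne_zero (by rw [hN]; norm_num)
  have hsim : IsSimpleGroup Spor.Co1 := Cfsg.Agent.S0399.result.1
  have hfirr : Finite (IrrCharacter Spor.Co1) := finite_irr
  have := Fintype.ofFinite (IrrCharacter Spor.Co1)
  have hnp : ¬ (Nat.card Spor.Co1).Prime := by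
    rw [hN]
    intro h
    have := (Nat.dvd_prime h).1 (by norm_num : 2 ∣ 4157776806543360000)
    omega
  have hG : ¬ IsMulCommutative Spor.Co1 := by
    intro h
    let _ : CommGroup Spor.Co1 := { (inferInstance : Group Spor.Co1) with mul_comm := fun a b => h.is_comm.comm a b }
    exact hnp IsSimpleGroup.prime_card
  have : Fact (Nat.Prime 23) := ⟨by norm_num⟩
  obtain ⟨x, hx⟩ := exists_prime_orderOf_dvd_card' (G := Spor.Co1) 23 (by rw [hN]; norm_num)
  have hc : Nat.card (centralizer ({x} : Set Spor.Co1)) = 23 * 1 :=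
    Cfsg.Agent.H208.DS.cent_co1 ⟨MulEquiv.refl _⟩ hx
  obtain ⟨P, W, hP, -, hcol, hok⟩ := exists_col hG hN hx hc 11 2 [(0, 0), (1, 2), (11, -1), (12, 1), (22, -2)] 2 true
    (by decide +kernel)
  have hmem : ∀ χ : IrrCharacter Spor.Co1, (deg χ % 23 = 0 ∧ W χ = 0) ∨ (deg χ % 23 = 1 ∧ W χ = 2) ∨
      (deg χ % 23 = 11 ∧ W χ = -1) ∨ (deg χ % 23 = 12 ∧ W χ = 1) ∨ (deg χ % 23 = 22 ∧ W χ = -2) := by
    intro χ
    have h := hok.mem χ
    simpa using h
  have hdeg : ∑ χ, W χ * (deg χ : ℤ) = 0 := hok.deg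
  have hsq : ∑ χ, W χ * W χ = 46 := hok.sq
  have hcnt : ∑ χ, (bif Nat.beq (W χ).natAbs 1 then (1 : ℤ) else 0) = 2 := hok.cnt rfl
  have hone : ∀ χ : IrrCharacter Spor.Co1, (χ : Spor.Co1 → ℂ) = 1 → W χ = 2 := hok.one
  by_contra h8
  -- the set of the degrees
  have hfd : (charDegrees Spor.Co1).Finite := finite_charDegrees
  set A := hfd.toFinset with hA
  have hmA : ∀ d, d ∈ A ↔ d ∈ charDegrees Spor.Co1 := fun d => by rw [hA, Set.Finite.mem_toFinset]
  have hdA : ∀ χ : IrrCharacter Spor.Co1, deg χ ∈ A := fun χ => (hmA _).2 ⟨χ, rfl⟩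
  have hAc : A.card ≤ 7 := by
    have h1 : (charDegrees Spor.Co1).ncard = A.card := Set.ncard_eq_toFinset_card _ hfd
    have h2 : ¬ 8 ≤ (charDegrees Spor.Co1).ncard := h8
    omega
  set K : Finset ℕ := {1, 276, 299, 17250, 80730} with hK
  have hKA : K ⊆ A := by
    intro d hd
    rw [hmA]
    simp only [hK, Finset.mem_insert, Finset.mem_singleton] at hd
    rcases hd with rfl | rfl | rfl | rfl | rfl
    · exact one_mem
    · exact H843.IMC.Co1B.hasDeg_276
    · exact H843.IMC.Co1B.hasDeg_299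
    · exact H843.IMC.Co1D.hasDeg.1
    · exact H843.IMC.Co1D.hasDeg.2
  have hBc : (A \ K).card ≤ 2 := by
    rw [Finset.card_sdiff_of_subset hKA, show K.card = 5 by decide]
    omega
  -- the principal character
  set χ₀ : IrrCharacter Spor.Co1 := ⟨1, isIrr_one⟩ with hχ₀
  have hW0 : W χ₀ = 2 := hone χ₀ rfl
  have hd0 : deg χ₀ = 1 := by
    show charDegree (1 : Spor.Co1 → ℂ) = 1
    unfold charDegree
    simp
  have hne1 : ∀ χ : IrrCharacter Spor.Co1, χ ≠ χ₀ → deg χ ≠ 1 := by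
    intro χ hχ h1
    exact hχ (Subtype.ext (one_of_deg hnp χ h1))
  -- degrees prime to 23
  have hinB : ∀ χ : IrrCharacter Spor.Co1, W χ ≠ 0 → χ ≠ χ₀ → deg χ ∈ A \ K := by
    intro χ hχ h0
    rw [Finset.mem_sdiff]
    refine ⟨hdA χ, fun hd => ?_⟩
    have h1 := hne1 χ h0
    have h2 := hmem χ
    simp only [hK, Finset.mem_insert, Finset.mem_singleton] at hd
    rcases hd with hd | hd | hd | hd | hd <;> rw [hd] at h1 h2 <;> omega
  -- an exceptional character
  obtain ⟨χe, hχe⟩ : ∃ χ, W χ = 1 ∨ W χ = -1 := by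
    by_contra hcon
    push Not at hcon
    have h1 : ∑ χ, (bif Nat.beq (W χ).natAbs 1 then (1 : ℤ) else 0) = 0 := by
      refine Finset.sum_eq_zero fun χ _ => ?_
      have h2 := hcon χ
      have h3 : Nat.beq (W χ).natAbs 1 = false := by
        rw [Bool.eq_false_iff]
        intro h4
        have := Nat.eq_of_beq_eq_true h4
        omega
      rw [h3, cond_false]
    rw [h1] at hcnt
    norm_num at hcnt
  -- the squares
  have hsq' : ∀ χ, W χ * W χ = 4 * (if W χ = 2 ∨ W χ = -2 then (1 : ℤ) else 0) +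
      (bif Nat.beq (W χ).natAbs 1 then (1 : ℤ) else 0) := by
    intro χ
    rcases hmem χ with h | h | h | h | h <;> rw [h.2] <;> decide
  have hn2 : ∑ χ, (if W χ = 2 ∨ W χ = -2 then (1 : ℤ) else 0) = 11 := by
    have h1 := hsq
    rw [Finset.sum_congr rfl fun χ _ => hsq' χ, Finset.sum_add_distrib, ← Finset.mul_sum, hcnt] at h1
    omega
  -- a nonexceptional character
  obtain ⟨χn, hχn, hχn0⟩ : ∃ χ, (W χ = 2 ∨ W χ = -2) ∧ χ ≠ χ₀ := by
    by_contra hcon
    push Not at hcon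
    have h1 : ∑ χ, (if W χ = 2 ∨ W χ = -2 then (1 : ℤ) else 0) = 1 := by
      rw [Finset.sum_eq_single χ₀]
      · rw [if_pos (Or.inl hW0)]
      · intro χ _ hχ
        rw [if_neg]
        exact fun h => hχ (hcon χ h)
      · intro h
        exact absurd (Finset.mem_univ _) h
    rw [h1] at hn2
    norm_num at hn2
  set a := deg χn with ha
  set b := deg χe with hb
  have he0 : χe ≠ χ₀ := by
    rintro rfl
    rw [hW0] at hχe
    omega
  have haB : a ∈ A \ K := hinB χn (by omega) hχn0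
  have hbB : b ∈ A \ K := hinB χe (by omega) he0
  have hab : a ≠ b := by
    intro h
    have h1 := hmem χn
    have h2 := hmem χe
    rw [← ha, h] at h1
    rw [← hb] at h2
    omega
  have hB2 : A \ K = {a, b} := by
    symm
    apply Finset.eq_of_subset_of_card_le
    · intro d hd
      rw [Finset.mem_insert, Finset.mem_singleton] at hd
      rcases hd with rfl | rfl
      · exact haB
      · exact hbB
    · rw [Finset.card_pair hab]
      exact hBc
  -- all the degrees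
  have hall : ∀ χ : IrrCharacter Spor.Co1, W χ ≠ 0 → χ ≠ χ₀ → deg χ = a ∨ deg χ = b := by
    intro χ h1 h2
    have h3 := hinB χ h1 h2
    rw [hB2, Finset.mem_insert, Finset.mem_singleton] at h3
    exact h3
  have hs : (a % 23 = 1 ∧ W χn = 2) ∨ (a % 23 = 22 ∧ W χn = -2) := by
    have h1 := hmem χn
    rw [← ha] at h1
    omega
  have hε : (b % 23 = 12 ∧ W χe = 1) ∨ (b % 23 = 11 ∧ W χe = -1) := by
    have h1 := hmem χe
    rw [← hb] at h1
    omega
  -- the sum
  have b01 : Nat.beq 0 1 = false := rfl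
  have b21 : Nat.beq 2 1 = false := rfl
  have hterm : ∀ χ, W χ * (deg χ : ℤ) = (W χn * a) * (if W χ = 2 ∨ W χ = -2 then (1 : ℤ) else 0) +
      (W χe * b) * (bif Nat.beq (W χ).natAbs 1 then (1 : ℤ) else 0) + (if χ = χ₀ then 2 - W χn * a else 0) := by
    intro χ
    by_cases h0 : χ = χ₀
    · rw [h0, hW0, hd0]
      simp [b21]
    · rw [if_neg h0, add_zero]
      rcases hmem χ with h | h | h | h | h
      · rw [h.2]; simp [b01]
      · have h1 : deg χ = a ∧ W χn = 2 := by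
          have := hall χ (by omega) h0
          omega
        rw [h.2, h1.1, h1.2]; simp [b21]
      · have h1 : deg χ = b ∧ W χe = -1 := by
          have := hall χ (by omega) h0
          omega
        rw [h.2, h1.1, h1.2]; simp [b21]
      · have h1 : deg χ = b ∧ W χe = 1 := by
          have := hall χ (by omega) h0
          omega
        rw [h.2, h1.1, h1.2]; simp [b21]
      · have h1 : deg χ = a ∧ W χn = -2 := by
          have := hall χ (by omega) h0
          omega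
        rw [h.2, h1.1, h1.2]; simp [b21]
  have hfinal : 10 * W χn * a + 2 * W χe * b + 2 = 0 := by
    have h1 := hdeg
    rw [Finset.sum_congr rfl fun χ _ => hterm χ, Finset.sum_add_distrib, Finset.sum_add_distrib, ← Finset.mul_sum,
      ← Finset.mul_sum, hn2, hcnt, Finset.sum_ite_eq' Finset.univ χ₀] at h1
    simp only [Finset.mem_univ, if_true] at h1
    linarith
  have hdvd : ∀ χ : IrrCharacter Spor.Co1, deg χ ∣ 4157776806543360000 := by
    intro χ
    rw [← hN]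
    exact Blocks.Knorr.charDegree_dvd χ.2
  have hpos : ∀ χ : IrrCharacter Spor.Co1, 0 < deg χ := by
    intro χ
    exact Nat.pos_of_dvd_of_pos (hdvd χ) (by norm_num)
  exact num_co1 (hdvd χn) (hdvd χe) (hpos χn) (hne1 χn hχn0) (hpos χe) hs hε hfinal

/-- **`Co1`.** -/
theorem eight_co1 {S : Type u} [Group S] (h : Spor.IsoCo1 S) : Eight S := by
  obtain ⟨e⟩ := h
  exact eight_co1'.of_equiv e

end Cfsg.Agent.H83.Eight
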