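import Cfsg.Agent.H83.Eight.TI
import Mathlib.GroupTheory.Sylow

/-!
# The normaliser of a cyclic CC-subgroup (helper83, for S4899)

`card_normalizer` : if `A` is cyclic, `C_G(x) = A` for all `x ∈ A#`, `r` a prime divisor of `|A|` and
`|G : A| ≡ c mod r`, `0 < c < r`, then `|N_G(A)| = c |A|`.
-/

set_option autoImplicit false
set_option linter.unusedSectionVars false

namespace Cfsg.Agent.H83.Eight.CC

open Characters.CCBasic Subgroup

variable {G : Type*} [Group G] [Finite G] {A : Subgroup G}

theorem conj_mem_iff (hA : IsCC A) {g x : G} (hx : x ∈ A) (hx1 : x ≠ 1) :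
    g * x * g⁻¹ ∈ A ↔ g ∈ normalizer (A : Set G) :=
  ⟨fun h => hA.ti hx hx1 h, fun h => (mem_normalizer_iff.1 h x).1 hx⟩

/-- `|N(A) : A| ≤ r - 1` -/
theorem relIndex_le (hA : IsCC A) (hcyc : IsCyclic A) {r : ℕ} (hr : r.Prime) (hrA : r ∣ Nat.card A) :
    A.relIndex (normalizer (A : Set G)) ≤ r - 1 := by
  classical
  have hrf : Fact r.Prime := ⟨hr⟩
  have := Fintype.ofFinite A
  obtain ⟨x, hx⟩ := exists_prime_orderOf_dvd_card' (G := A) r hrA
  have hx1 : (x : G) ≠ 1 := by
    intro h
    have h1 : x = 1 := Subtype.ext h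
    rw [h1, orderOf_one] at hx
    exact hr.one_lt.ne hx
  let S : Type _ := {y : A // orderOf y = r}
  have hS : Nat.card S = r - 1 := by
    have h1 := IsCyclic.card_orderOf_eq_totient (α := A) (d := r) (by rwa [← Nat.card_eq_fintype_card])
    rw [Nat.totient_prime hr] at h1
    rw [← h1, Nat.card_eq_fintype_card, Fintype.card_subtype]
  let f : (normalizer (A : Set G)) → S := fun g =>
    ⟨⟨g * x * (g : G)⁻¹, (conj_mem_iff hA x.2 hx1).2 g.2⟩, by
      rw [← hx, Subgroup.orderOf_mk, ← Subgroup.orderOf_coe x]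
      have := MulEquiv.orderOf_eq (MulAut.conj (g : G)) (x : G)
      rwa [MulAut.conj_apply] at this⟩
  have hf : ∀ g h : normalizer (A : Set G), f g = f h ↔ g⁻¹ * h ∈ A.subgroupOf (normalizer (A : Set G)) := by
    intro g h
    rw [Subgroup.mem_subgroupOf]
    constructor
    · intro e
      have e1 : (g : G) * x * (g : G)⁻¹ = h * x * (h : G)⁻¹ := congrArg (fun y : S => ((y.1 : A) : G)) e
      refine hA.mem_of_comm x.2 hx1 ?_
      push_cast
      calc (g : G)⁻¹ * h * x = (g : G)⁻¹ * (h * x * (h : G)⁻¹) * h := by group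
        _ = (g : G)⁻¹ * (g * x * (g : G)⁻¹) * h := by rw [e1]
        _ = _ := by group
    · intro e
      push_cast at e
      have e1 := hA.comm e x.2
      apply Subtype.ext
      apply Subtype.ext
      change (g : G) * x * (g : G)⁻¹ = h * x * (h : G)⁻¹
      calc (g : G) * x * (g : G)⁻¹ = g * (x * ((g : G)⁻¹ * h)) * (h : G)⁻¹ := by group
        _ = g * ((g : G)⁻¹ * h * x) * (h : G)⁻¹ := by rw [e1]
        _ = _ := by group
  have hinj : Function.Injective (fun q : (normalizer (A : Set G)) ⧸ A.subgroupOf (normalizer (A : Set G)) =>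
      Quotient.liftOn' q f (fun g h e => (hf g h).2 (QuotientGroup.leftRel_apply.1 e))) := by
    intro a b
    induction a using Quotient.inductionOn' with | h a => ?_
    induction b using Quotient.inductionOn' with | h b => ?_
    intro e
    exact QuotientGroup.eq.2 ((hf a b).1 e)
  rw [← hS]
  have : Finite S := inferInstance
  exact Nat.card_le_card_of_injective _ hinj

theorem card_normalizer (hA : IsCC A) (hcyc : IsCyclic A) {r c : ℕ} (hr : r.Prime) (hrA : r ∣ Nat.card A)
    (hc : A.index ≡ c [MOD r]) (hc0 : 0 < c) (hcr : c < r) :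
    Nat.card (normalizer (A : Set G)) = c * Nat.card A := by
  classical
  have hrf : Fact r.Prime := ⟨hr⟩
  have hle := relIndex_le hA hcyc hr hrA
  have hcard : Nat.card (normalizer (A : Set G)) = A.relIndex (normalizer (A : Set G)) * Nat.card A := by
    have h1 := Subgroup.relIndex_mul_relIndex ⊥ A _ bot_le (le_normalizer (H := A))
    rw [relIndex_bot_left, relIndex_bot_left] at h1
    rw [← h1, mul_comm]
  have hpos : 0 < A.relIndex (normalizer (A : Set G)) := Nat.pos_of_ne_zero Subgroup.index_ne_zero_of_finite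
  have hnd : ¬ r ∣ A.index := by
    intro h
    have h1 : r ∣ c := (Nat.modEq_zero_iff_dvd).1 (hc.symm.trans (Nat.modEq_zero_iff_dvd.2 h))
    exact absurd (Nat.le_of_dvd hc0 h1) (by omega)
  -- the Sylow subgroup
  obtain ⟨Q⟩ : Nonempty (Sylow r A) := inferInstance
  have hQc : Nat.card ((Q : Subgroup A).map A.subtype) = r ^ (Nat.card G).factorization r := by
    rw [Nat.card_congr ((Q : Subgroup A).equivMapOfInjective _ (subtype_injective _)).toEquiv.symm,
      Q.card_eq_multiplicity, ← A.card_mul_index, Nat.factorization_mul Nat.card_pos.ne' Subgroup.index_ne_zero_of_finite,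
      Finsupp.add_apply, Nat.factorization_eq_zero_of_not_dvd hnd, add_zero]
  let P : Sylow r G := Sylow.ofCard ((Q : Subgroup A).map A.subtype) hQc
  have hP : (P : Subgroup G) = (Q : Subgroup A).map A.subtype := rfl
  have hPA : (P : Subgroup G) ≤ A := by rw [hP]; exact map_subtype_le _
  have hPne : ∃ x ∈ (P : Subgroup G), x ≠ 1 := by
    by_contra hcon
    push Not at hcon
    have h1 : (P : Subgroup G) = ⊥ := (Subgroup.eq_bot_iff_forall _).2 hcon
    have h2 : Nat.card (P : Subgroup G) = r ^ (Nat.card G).factorization r := hQc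
    rw [h1, Subgroup.card_bot] at h2
    have h3 : 1 ≤ (Nat.card G).factorization r :=
      (hr.dvd_iff_one_le_factorization Nat.card_pos.ne').1 (hrA.trans (Subgroup.card_subgroup_dvd_card A))
    have h4 : r ^ 1 ≤ r ^ (Nat.card G).factorization r := Nat.pow_le_pow_right hr.pos h3
    have := hr.two_le
    rw [pow_one] at h4
    omega
  have hmemP : ∀ y ∈ A, (∃ k, y ^ r ^ k = 1) → y ∈ (P : Subgroup G) := by
    intro y hy hk
    have hcomm : ∀ a b : A, a * b = b * a := fun a b => Subtype.ext (hA.comm a.2 b.2)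
    have hQn : (Q : Subgroup A).Normal := ⟨fun a ha g => by
      rw [hcomm g a, mul_assoc, mul_inv_cancel, mul_one]; exact ha⟩
    have h1 : IsPGroup r (zpowers (⟨y, hy⟩ : A)) := by
      obtain ⟨k, hk⟩ := hk
      rw [IsPGroup.iff_card]
      have h2 : orderOf (⟨y, hy⟩ : A) ∣ r ^ k := orderOf_dvd_of_pow_eq_one (Subtype.ext hk)
      obtain ⟨j, -, hj⟩ := (Nat.dvd_prime_pow hr).1 h2
      exact ⟨j, by rw [Nat.card_zpowers, hj]⟩
    obtain ⟨Q', hQ'⟩ := h1.exists_le_sylow
    have h2 : Subsingleton (Sylow r A) := (Sylow.unique_of_normal Q hQn).instSubsingleton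
    rw [Subsingleton.elim Q' Q] at hQ'
    rw [hP]
    exact ⟨⟨y, hy⟩, hQ' (mem_zpowers _), rfl⟩
  have hN : normalizer ((P : Subgroup G) : Set G) = normalizer (A : Set G) := by
    apply le_antisymm
    · intro g hg
      obtain ⟨x, hx, hx1⟩ := hPne
      exact hA.ti (hPA hx) hx1 (hPA ((mem_normalizer_iff.1 hg x).1 hx))
    · intro g hg
      have key : ∀ g ∈ normalizer (A : Set G), ∀ x ∈ (P : Subgroup G), g * x * g⁻¹ ∈ (P : Subgroup G) := by
        intro g hg x hx
        refine hmemP _ ((mem_normalizer_iff.1 hg x).1 (hPA hx)) ?_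
        obtain ⟨k, hk⟩ := P.2 ⟨x, hx⟩
        have hk' : x ^ r ^ k = 1 := congrArg Subtype.val hk
        refine ⟨k, ?_⟩
        rw [conj_pow, hk', mul_one, mul_inv_cancel]
      rw [mem_normalizer_iff]
      intro x
      refine ⟨key g hg x, fun h => ?_⟩
      have h1 := key g⁻¹ (inv_mem hg) _ h
      have h2 : g⁻¹ * (g * x * g⁻¹) * g⁻¹⁻¹ = x := by group
      rwa [h2] at h1
  have hsyl : (normalizer (A : Set G)).index ≡ 1 [MOD r] := by
    have h5 := Sylow.card_eq_index_normalizer P
    have h6 : normalizer (P : Set G) = normalizer (A : Set G) := hN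
    rw [h6] at h5
    rw [← h5]
    exact card_sylow_modEq_one r G
  have h1 : A.relIndex (normalizer (A : Set G)) * (normalizer (A : Set G)).index = A.index :=
    relIndex_mul_index le_normalizer
  have h2 : A.relIndex (normalizer (A : Set G)) ≡ c [MOD r] := by
    have h3 := (Nat.ModEq.mul_left (A.relIndex (normalizer (A : Set G))) hsyl)
    rw [h1, mul_one] at h3
    exact h3.symm.trans hc
  have h3 : A.relIndex (normalizer (A : Set G)) = c := by
    have h4 : A.relIndex (normalizer (A : Set G)) < r := by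
      have := hr.two_le
      omega
    exact Nat.ModEq.eq_of_lt_of_lt h2 h4 hcr
  rw [hcard, h3]

end Cfsg.Agent.H83.Eight.CC
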