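import Cfsg.Agent.Characters.CCEstimates
import Cfsg.Prelude.Def_DegreeGraph

/-!
# An exceptional degree (helper83, for S4899)

`A` a subgroup with `C_G(x) = A` for all `x ∈ A#`, `m = |A|`, `|N_G(A)| = e m`, `2 ≤ e`, `e + 1 < m`. Then some irreducible
character of `G` has a degree not congruent to `0`, `1`, `-1` modulo `m`: `exists_exc`. More precisely the exceptional
characters have degree `≡ ε e - c` modulo `m` with `ε = ± 1`, `c ^ 2 ≤ e`, `(c + ε) ^ 2 ≤ e`.
-/

set_option autoImplicit false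
set_option linter.unusedSectionVars false

open scoped ComplexConjugate
open Cfsg

namespace Cfsg.Agent.H83.Eight.TI

open Characters Characters.CCBasic Characters.CCOrbit Characters.CCInduce Characters.CCExceptional Characters.CCValues
  CharactersDeep.NormalInd

universe u

variable {G : Type u} [Group G] [Fintype G] {A : Subgroup G}

/-- The inner product of `(l - 1)^G` with `χ`. -/
theorem inner_ind [Fintype A] (l : NP A) (χ : IrrCharacter G) :
    classInner (indFun A ((l.1 : A → ℂ) - 1)) (χ : G → ℂ) = ((mult χ l.1 - mult χ (one A) : ℤ) : ℂ) := by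
  have h := mult_spec χ (one A)
  rw [coe_one] at h
  rw [classInner_indFun A _ _ (Core.isIrr_isClassFunction χ.2), Core.classInner_sub_left,
    ← Core.classInner_conj_symm _ (l.1 : A → ℂ), ← Core.classInner_conj_symm _ (1 : A → ℂ), mult_spec,
    h, map_intCast, map_intCast]
  push_cast
  rfl

/-- The norm of `(l - 1)^G`. -/
theorem sum_sq (hA : IsCC A) [Fintype A] [Fintype (IrrCharacter G)] (l : NP A) :
    (Nat.card A : ℤ) * ∑ χ : IrrCharacter G, (mult χ l.1 - mult χ (one A)) ^ 2 =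
      Nat.card A + Nat.card (Subgroup.normalizer (A : Set G)) := by
  classical
  have : Fintype (Subgroup.normalizer (A : Set G)) := Fintype.ofFinite _
  have hn : (Nat.card A : ℂ) ≠ 0 := Core.card_ne_zero_complex
  have hη : ((l.1 : A → ℂ) - 1) 1 = 0 := by
    rw [Pi.sub_apply, irr_apply_one_of_comm (comm_coe hA) l.1.2, Pi.one_apply, sub_self]
  have h1 := classInner_indFun_indFun hA ((l.1 : A → ℂ) - 1) hη
  have hcf : IsClassFunction G (indFun A ((l.1 : A → ℂ) - 1)) := indFun_isClassFunction A _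
  rw [Core.classInner_eq_sum hcf hcf] at h1
  have h2 : ∀ χ : IrrCharacter G, classInner (indFun A ((l.1 : A → ℂ) - 1)) (χ : G → ℂ) *
      conj (classInner (indFun A ((l.1 : A → ℂ) - 1)) (χ : G → ℂ)) =
      (((mult χ l.1 - mult χ (one A)) ^ 2 : ℤ) : ℂ) := by
    intro χ
    rw [inner_ind, map_intCast]
    push_cast
    ring
  rw [Finset.sum_congr rfl fun χ _ => h2 χ] at h1
  have h3 : ∀ x : Subgroup.normalizer (A : Set G), classInner ((l.1 : A → ℂ) - 1) (cj A x ((l.1 : A → ℂ) - 1)) =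
      classInner (l.1 : A → ℂ) (cj A x (l.1 : A → ℂ)) + 1 := by
    intro x
    have hx : cj A x (l.1 : A → ℂ) ≠ 1 := by
      intro h
      apply l.2
      apply cj_injective A x
      rw [h, cj_const_one]
    rw [cj_sub, cj_const_one, Core.classInner_sub_right, Core.classInner_sub_left, Core.classInner_sub_left,
      Core.classInner_irr_ne Core.isIrr_one (isIrr_cj A x l.1.2) (Ne.symm hx),
      Core.classInner_irr_ne l.1.2 Core.isIrr_one l.2, Core.classInner_irr_self Core.isIrr_one]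
    ring
  rw [Finset.sum_congr rfl fun x _ => h3 x, Finset.sum_add_distrib, mul_add,
    avg_classInner_cj hA l.1.2 l.1.2 l.2, if_pos (Rel.refl _), Finset.sum_const, Finset.card_univ, nsmul_eq_mul, mul_one,
    ← Nat.card_eq_fintype_card] at h1
  have h4 : (Nat.card A : ℂ) * ((∑ χ : IrrCharacter G, (mult χ l.1 - mult χ (one A)) ^ 2 : ℤ) : ℂ) =
      Nat.card A + Nat.card (Subgroup.normalizer (A : Set G)) := by
    rw [Int.cast_sum, h1, mul_add, mul_one, ← mul_assoc, mul_inv_cancel₀ hn, one_mul]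
  exact_mod_cast h4

/-- the principal character -/
theorem mult_one [Fintype A] (l : IrrCharacter A) :
    mult (one G) l = if (l : A → ℂ) = 1 then 1 else 0 := by
  have h1 := mult_spec (one G) l
  have h2 : (fun a : A => (one G : G → ℂ) a) = 1 := rfl
  rw [h2, Core.classInner_irr Core.isIrr_one l.2] at h1
  by_cases h : (l : A → ℂ) = 1
  · rw [if_pos h.symm] at h1
    rw [if_pos h]
    exact_mod_cast h1.symm
  · rw [if_neg (Ne.symm h)] at h1
    rw [if_neg h]
    exact_mod_cast h1.symm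

/-- the bound for the coefficients -/
theorem sq_le (hA : IsCC A) [Fintype A] {e : ℕ} (he : Nat.card (Subgroup.normalizer (A : Set G)) = e * Nat.card A)
    (l : NP A) {χ : IrrCharacter G} (hχ : χ ≠ one G) : (mult χ l.1 - mult χ (one A)) ^ 2 ≤ (e : ℤ) := by
  classical
  have : Finite (IrrCharacter G) := Core.finite_irr
  have := Fintype.ofFinite (IrrCharacter G)
  have h1 := sum_sq hA l
  rw [he] at h1
  have hpos : (0 : ℤ) < Nat.card A := by exact_mod_cast Nat.card_pos
  have h2 : ∑ χ : IrrCharacter G, (mult χ l.1 - mult χ (one A)) ^ 2 = 1 + (e : ℤ) := by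
    apply mul_left_cancel₀ hpos.ne'
    rw [h1]
    push_cast
    ring
  have h3 : ∑ χ' ∈ ({χ, one G} : Finset (IrrCharacter G)), (mult χ' l.1 - mult χ' (one A)) ^ 2 ≤
      ∑ χ' : IrrCharacter G, (mult χ' l.1 - mult χ' (one A)) ^ 2 :=
    Finset.sum_le_sum_of_subset_of_nonneg (Finset.subset_univ _) fun _ _ _ => by positivity
  rw [Finset.sum_pair hχ, h2, mult_one, mult_one, if_neg l.2, if_pos (coe_one A)] at h3
  linarith

/-- **The degrees of the exceptional characters.** -/
theorem exists_exc' (hA : IsCC A) {e : ℕ} (he : Nat.card (Subgroup.normalizer (A : Set G)) = e * Nat.card A)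
    (hm : e + 1 < Nat.card A) :
    ∃ (χ : IrrCharacter G) (ε c : ℤ), (ε = 1 ∨ ε = -1) ∧ c ^ 2 ≤ e ∧ (c + ε) ^ 2 ≤ e ∧
      (Nat.card A : ℤ) ∣ (charDegree (χ : G → ℂ) : ℤ) - (ε * e - c) := by
  classical
  have := Fintype.ofFinite A
  have : Finite (IrrCharacter A) := Core.finite_irr
  have := Fintype.ofFinite (IrrCharacter A)
  have := Fintype.ofFinite (NP A)
  obtain ⟨X⟩ := nonempty_exc hA
  obtain ⟨l₀⟩ := nonempty_np hA
  have hcard := card_np hA
  have hrel : (Finset.univ.filter fun l : NP A => Rel A (l₀.1 : A → ℂ) (l.1 : A → ℂ)).card = e := by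
    rw [CCEstimates.card_np_rel hA l₀]
    have h1 := CCEstimates.len_mul_card A
    rw [he] at h1
    exact Nat.eq_of_mul_eq_mul_right Nat.card_pos h1
  obtain ⟨l₁, hl₁⟩ : ∃ l₁ : NP A, ¬ Rel A (l₀.1 : A → ℂ) (l₁.1 : A → ℂ) := by
    by_contra hcon
    push Not at hcon
    rw [Finset.filter_true_of_mem fun l _ => hcon l, Finset.card_univ] at hrel
    omega
  have hE : X.E l₀ ≠ X.E l₁ := fun h => hl₁ ((X.E_iff l₀ l₁).1 h)
  have hne1 : X.E l₀ ≠ one G := by
    intro h
    have h1 := mult_sub hA X (X.E l₀) l₀ l₁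
    rw [if_pos rfl, if_neg hE, h, mult_one, mult_one, if_neg l₀.2, if_neg l₁.2] at h1
    rcases X.hε with h2 | h2 <;> rw [h2] at h1 <;> norm_num at h1
  refine ⟨X.E l₀, X.ε, mult (X.E l₀) l₁.1 - mult (X.E l₀) (one A), X.hε, sq_le hA he l₁ hne1, ?_, ?_⟩
  · have h1 := mult_sub hA X (X.E l₀) l₀ l₁
    rw [if_pos rfl, if_neg hE, sub_zero, mul_one] at h1
    have h2 := sq_le hA he l₀ hne1
    have h3 : mult (X.E l₀) l₀.1 - mult (X.E l₀) (one A) =
        mult (X.E l₀) l₁.1 - mult (X.E l₀) (one A) + X.ε := by linarith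
    rwa [h3] at h2
  · have h1 := sum_mult hA (X.E l₀)
    rw [sum_irr_eq] at h1
    have h2 : ∀ l : NP A, mult (X.E l₀) l.1 = mult (X.E l₀) l₁.1 +
        X.ε * (if Rel A (l₀.1 : A → ℂ) (l.1 : A → ℂ) then 1 else 0) := by
      intro l
      have h3 := mult_sub hA X (X.E l₀) l l₁
      rw [if_neg hE, sub_zero] at h3
      have h4 : (if X.E l₀ = X.E l then (1 : ℤ) else 0) = if Rel A (l₀.1 : A → ℂ) (l.1 : A → ℂ) then 1 else 0 := by
        by_cases h5 : X.E l₀ = X.E l
        · rw [if_pos h5, if_pos ((X.E_iff _ _).1 h5)]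
        · rw [if_neg h5, if_neg fun h6 => h5 ((X.E_iff _ _).2 h6)]
      rw [h4] at h3
      linarith
    rw [Finset.sum_congr rfl fun l _ => h2 l, Finset.sum_add_distrib, Finset.sum_const, ← Finset.mul_sum,
      Finset.sum_boole, hrel, Finset.card_univ, nsmul_eq_mul] at h1
    have h3 : ((X.E l₀ : IrrCharacter G) : G → ℂ) 1 = (charDegree ((X.E l₀ : IrrCharacter G) : G → ℂ) : ℂ) := by
      obtain ⟨n, -, hn⟩ := Core.isIrr_apply_one (X.E l₀).2
      have : charDegree ((X.E l₀ : IrrCharacter G) : G → ℂ) = n := by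
        unfold charDegree
        rw [hn]
        simp
      rw [this, hn]
    rw [h3] at h1
    have h4 : (charDegree ((X.E l₀ : IrrCharacter G) : G → ℂ) : ℤ) = mult (X.E l₀) (one A) +
        ((Fintype.card (NP A) : ℤ) * mult (X.E l₀) l₁.1 + X.ε * e) := by
      exact_mod_cast h1
    refine ⟨mult (X.E l₀) l₁.1, ?_⟩
    rw [h4]
    have h5 : (Nat.card A : ℤ) = Fintype.card (NP A) + 1 := by exact_mod_cast hcard.symm
    rw [h5]
    ring

/-- **A degree not congruent to `0`, `1`, `-1`.** -/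
theorem exists_exc (hA : IsCC A) {e : ℕ} (he : Nat.card (Subgroup.normalizer (A : Set G)) = e * Nat.card A)
    (h2 : 2 ≤ e) (hm : 2 * e + 1 ≤ Nat.card A) :
    ∃ χ : IrrCharacter G, ¬ (Nat.card A : ℤ) ∣ (charDegree (χ : G → ℂ) : ℤ) ∧
      ¬ (Nat.card A : ℤ) ∣ (charDegree (χ : G → ℂ) : ℤ) - 1 ∧ ¬ (Nat.card A : ℤ) ∣ (charDegree (χ : G → ℂ) : ℤ) + 1 := by
  obtain ⟨χ, ε, c, hε, hc, hcε, hd⟩ := exists_exc' hA he (by omega)
  have key : ∀ r : ℤ, (r = 0 ∨ r = 1 ∨ r = -1) → ¬ (Nat.card A : ℤ) ∣ ε * e - c - r := by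
    intro r hr h
    have e2 : (2 : ℤ) ≤ e := by exact_mod_cast h2
    have m2 : 2 * (e : ℤ) + 1 ≤ Nat.card A := by exact_mod_cast hm
    have c1 : c < e := by nlinarith
    have c2 : -c < e := by nlinarith
    have c3 : c + ε < e := by nlinarith
    have c4 : -(c + ε) < e := by nlinarith
    rcases hε with rfl | rfl
    · have h5 := Int.le_of_dvd (by rcases hr with rfl | rfl | rfl <;> linarith) h
      rcases hr with rfl | rfl | rfl <;> linarith
    · have h5 := Int.le_of_dvd (by rcases hr with rfl | rfl | rfl <;> linarith) (h.neg_right)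
      rcases hr with rfl | rfl | rfl <;> linarith
  have conv : ∀ r : ℤ, (Nat.card A : ℤ) ∣ (charDegree (χ : G → ℂ) : ℤ) - r → (Nat.card A : ℤ) ∣ ε * e - c - r := by
    intro r h
    have h5 := dvd_sub h hd
    have h6 : (charDegree (χ : G → ℂ) : ℤ) - r - ((charDegree (χ : G → ℂ) : ℤ) - (ε * e - c)) = ε * e - c - r := by ring
    rwa [h6] at h5
  refine ⟨χ, fun h => key 0 (Or.inl rfl) (conv 0 ?_), fun h => key 1 (Or.inr (Or.inl rfl)) (conv 1 h),
    fun h => key (-1) (Or.inr (Or.inr rfl)) (conv (-1) ?_)⟩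
  · rwa [sub_zero]
  · rwa [sub_neg_eq_add]

end Cfsg.Agent.H83.Eight.TI
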